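import Groth.Agent.Lib.PicRoot26.Points
import Groth.Agent.Lib.AlgSp.SliceLemmas

/-!
# Unique lifting against small extensions of arbitrary artinian local rings
-/

universe u

open CategoryTheory CategoryTheory.Limits AlgebraicGeometry IsLocalRing

set_option backward.isDefEq.respectTransparency false
set_option synthInstance.maxHeartbeats 200000
set_option linter.style.haveILetI false

noncomputable section

namespace GrothLib.PicRoot26

/-- Over an artinian local ring there is a faithfully flat artinian local ring with algebraically closed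
residue field. -/
theorem exists_flat_algClosed (A : Type u) [CommRing A] [IsLocalRing A] [IsArtinianRing A] :
    ∃ (B : Type u) (_ : CommRing B) (_ : IsLocalRing B) (_ : IsArtinianRing B) (φ : A →+* B),
      IsAlgClosed (ResidueField B) ∧ IsLocalHom φ ∧ φ.Flat := by
  let K := AlgebraicClosure (ResidueField A)
  obtain ⟨B, _, φ, ψ, hB, hBl, hflat, hψ, hker, hcomp⟩ := Gonflement.exists_flat_local (R := A) K
  haveI := hB; haveI := hBl
  haveI : (RingHom.ker ψ).IsMaximal := RingHom.ker_isMaximal_of_surjective ψ hψ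
  have hm : RingHom.ker ψ = maximalIdeal B := IsLocalRing.eq_maximalIdeal inferInstance
  haveI : IsLocalHom φ := ((IsLocalRing.local_hom_TFAE φ).out 0 2).2 (by rw [← hm, hker])
  have hnil : IsNilpotent (maximalIdeal B) := by
    obtain ⟨k, hk⟩ : IsNilpotent (maximalIdeal A) := by
      rw [← IsLocalRing.jacobson_eq_maximalIdeal (⊥ : Ideal A) bot_ne_top]
      exact IsArtinianRing.isNilpotent_jacobson_bot
    refine ⟨k, ?_⟩
    rw [← hm, hker, ← Ideal.map_pow, hk, Ideal.zero_eq_bot, Ideal.map_bot]; rfl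
  haveI : IsArtinianRing B := by
    rw [isArtinianRing_iff_krullDimLE_zero]
    refine Ring.krullDimLE_zero_iff.2 fun p hp => ?_
    have : p = maximalIdeal B := (IsLocalRing.le_maximalIdeal hp.ne_top).antisymm (by
      obtain ⟨k, hk⟩ := hnil
      exact hp.le_of_pow_le (n := k) (hk ▸ bot_le))
    rw [this]; infer_instance
  refine ⟨B, ‹_›, hBl, inferInstance, φ, ?_, inferInstance, hflat⟩
  exact IsAlgClosed.of_ringEquiv K _
    ((RingHom.quotientKerEquivOfSurjective hψ).symm.trans (Ideal.quotEquivOfEq hm))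

theorem spec_mk_comp {A B : Type u} [CommRing A] [CommRing B] (I : Ideal A) (τ : A →+* B) (J : Ideal B)
    (h : I ≤ J.comap τ) :
    Spec.map (CommRingCat.ofHom (Ideal.Quotient.mk J)) ≫ Spec.map (CommRingCat.ofHom τ) =
      Spec.map (CommRingCat.ofHom (Ideal.quotientMap J τ h)) ≫ Spec.map (CommRingCat.ofHom (Ideal.Quotient.mk I)) := by
  rw [← Spec.map_comp, ← Spec.map_comp]
  rfl

variable {X S : Scheme.{u}} {f : X ⟶ S} [IsProper f] {P : Over S}
  {φ : ∀ T : Over S, PicF.Cl (PicF.XT f T) → (T ⟶ P)} (hP : PicRel.IsRelPic f P φ) (n : ℕ) (m : P ⟶ P)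
  (hm : ∀ (T : Over S) (L : (PicF.XT f T).Modules), PicF.IsInvertible L →
    φ T (PicF.cl (CohB1.tensorPow L n)) = φ T (PicF.cl L) ≫ m)
include hP hm

/-- Uniqueness of lifts against small extensions. -/
theorem eq_of_lifts {A : Type u} [CommRing A] [IsLocalRing A] [IsArtinianRing A] (I : Ideal A) (hI : I ≠ ⊤)
    (h0 : I * I = ⊥) (hn : IsUnit (n : A)) (γ₁ γ₂ : Spec (CommRingCat.of A) ⟶ P.left)
    (h1 : Spec.map (CommRingCat.ofHom (Ideal.Quotient.mk I)) ≫ γ₁ =
      Spec.map (CommRingCat.ofHom (Ideal.Quotient.mk I)) ≫ γ₂)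
    (h2 : γ₁ ≫ m.left = γ₂ ≫ m.left) : γ₁ = γ₂ := by
  obtain ⟨B, _, _, _, ψ, hB, hψ, hflat⟩ := exists_flat_algClosed A
  let π : Spec (CommRingCat.of B) ⟶ Spec (CommRingCat.of A) := Spec.map (CommRingCat.ofHom ψ)
  haveI : Flat π := HasRingHomProperty.Spec_iff.2 hflat
  haveI : Surjective π := ⟨fun x => ⟨closedPoint B, Subsingleton.elim (α := PrimeSpectrum A) _ _⟩⟩
  haveI : EffectiveEpi π := inferInstance
  have hJ : I.map ψ ≠ ⊤ := fun h => by
    have : (maximalIdeal A).map ψ ≤ maximalIdeal B := ((IsLocalRing.local_hom_TFAE ψ).out 0 2).1 hψ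
    exact (maximalIdeal.isMaximal B).ne_top (top_le_iff.1 (h ▸ (Ideal.map_mono (le_maximalIdeal hI)).trans this))
  have hJ0 : I.map ψ * I.map ψ = ⊥ := by rw [← Ideal.map_mul, h0, Ideal.map_bot]
  have hc := spec_mk_comp I ψ (I.map ψ) Ideal.le_comap_map
  rw [← cancel_epi π]
  refine (existsUnique_lift_algClosed hP n m hm (I.map ψ) hJ hJ0 (map_natCast ψ n ▸ hn.map ψ)
    (Spec.map (CommRingCat.ofHom (Ideal.Quotient.mk (I.map ψ))) ≫ π ≫ γ₁) (π ≫ γ₁ ≫ m.left)
    (by simp only [Category.assoc])).unique ⟨rfl, Category.assoc _ _ _⟩ ⟨?_, by rw [Category.assoc, h2]⟩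
  rw [← Category.assoc, ← Category.assoc, hc, Category.assoc, Category.assoc, h1]

variable [LocallyOfFiniteType P.hom]

/-- The power map is formally unramified at the points where the exponent is invertible. -/
theorem formallyUnramified_stalkMap (x : P.left) (hn : IsUnit (n : P.left.presheaf.stalk x)) :
    (m.left.stalkMap x).hom.FormallyUnramified := by
  haveI : LocallyOfFiniteType (m.left ≫ P.hom) := by rw [Over.w m]; infer_instance
  haveI : LocallyOfFiniteType m.left := locallyOfFiniteType_of_comp m.left P.hom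
  letI := (m.left.stalkMap x).hom.toAlgebra
  haveI : Algebra.EssFiniteType (P.left.presheaf.stalk (m.left x)) (P.left.presheaf.stalk x) :=
    LocallyOfFiniteType.stalkMap m.left x
  refine LiftTest.formallyUnramified_of_unique _ _ ?_
  intro A' _ _ _ _ I hI hIm g₁ g₂ heq _ _
  have h0 : I * I = ⊥ := le_bot_iff.1 ((Ideal.mul_mono le_rfl (le_maximalIdeal hI)).trans hIm.le)
  have hn' : IsUnit (n : A') := map_natCast g₁ n ▸ hn.map g₁
  have key := eq_of_lifts hP n m hm I hI h0 hn'
    (Spec.map (CommRingCat.ofHom g₁.toRingHom) ≫ P.left.fromSpecStalk x)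
    (Spec.map (CommRingCat.ofHom g₂.toRingHom) ≫ P.left.fromSpecStalk x)
    (by
      rw [← Spec.map_comp_assoc, ← Spec.map_comp_assoc, cancel_mono]
      exact congrArg Spec.map (CommRingCat.hom_ext (congrArg AlgHom.toRingHom heq)))
    (by
      simp only [Category.assoc, ← Scheme.SpecMap_stalkMap_fromSpecStalk, ← Spec.map_comp_assoc]
      congr 2
      exact CommRingCat.hom_ext (g₁.comp_algebraMap.trans g₂.comp_algebraMap.symm))
  rw [cancel_mono] at key
  exact AlgHom.ext fun b => DFunLike.congr_fun (congrArg CommRingCat.Hom.hom (Spec.map_injective key)) b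

/-- Unique lifting against small extensions. -/
theorem existsUnique_lift {A : Type u} [CommRing A] [IsLocalRing A] [IsArtinianRing A] (I : Ideal A) (hI : I ≠ ⊤)
    (h0 : I * I = ⊥) (hn : IsUnit (n : A))
    (α : Spec (CommRingCat.of (A ⧸ I)) ⟶ P.left) (β : Spec (CommRingCat.of A) ⟶ P.left)
    (e : Spec.map (CommRingCat.ofHom (Ideal.Quotient.mk I)) ≫ β = α ≫ m.left) :
    ∃! γ : Spec (CommRingCat.of A) ⟶ P.left,
      Spec.map (CommRingCat.ofHom (Ideal.Quotient.mk I)) ≫ γ = α ∧ γ ≫ m.left = β := by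
  obtain ⟨B, _, _, _, ψ, hB, hψ, hflat⟩ := exists_flat_algClosed A
  let π : Spec (CommRingCat.of B) ⟶ Spec (CommRingCat.of A) := Spec.map (CommRingCat.ofHom ψ)
  haveI : Flat π := HasRingHomProperty.Spec_iff.2 hflat
  haveI : Surjective π := ⟨fun x => ⟨closedPoint B, Subsingleton.elim (α := PrimeSpectrum A) _ _⟩⟩
  haveI : EffectiveEpi π := inferInstance
  haveI : Nontrivial (A ⧸ I) := Ideal.Quotient.nontrivial_iff.2 hI
  haveI : IsLocalRing (A ⧸ I) := IsLocalRing.of_surjective' _ Ideal.Quotient.mk_surjective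
  have hJ : I.map ψ ≠ ⊤ := fun h => by
    have : (maximalIdeal A).map ψ ≤ maximalIdeal B := ((IsLocalRing.local_hom_TFAE ψ).out 0 2).1 hψ
    exact (maximalIdeal.isMaximal B).ne_top (top_le_iff.1 (h ▸ (Ideal.map_mono (le_maximalIdeal hI)).trans this))
  have hJ0 : I.map ψ * I.map ψ = ⊥ := by rw [← Ideal.map_mul, h0, Ideal.map_bot]
  have hc := spec_mk_comp I ψ (I.map ψ) Ideal.le_comap_map
  obtain ⟨δ, ⟨hδ1, hδ2⟩, -⟩ := existsUnique_lift_algClosed hP n m hm (I.map ψ) hJ hJ0 (map_natCast ψ n ▸ hn.map ψ)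
    (Spec.map (CommRingCat.ofHom (Ideal.quotientMap (I.map ψ) ψ Ideal.le_comap_map)) ≫ α) (π ≫ β)
    (by rw [reassoc_of% hc, e, Category.assoc])
  have hx : IsUnit (n : P.left.presheaf.stalk (α (closedPoint (A ⧸ I)))) := by
    obtain ⟨g, hg, -⟩ := LiftTest.exists_fac α _ rfl
    refine isUnit_of_map_unit g.hom _ ?_
    rw [map_natCast]
    exact map_natCast (Ideal.Quotient.mk I) n ▸ hn.map _
  have hglue : pullback.fst π π ≫ δ = pullback.snd π π ≫ δ := by
    refine RLpsi8.GluePoint.hom_ext_of_fromSpecStalk _ _ fun z => ?_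
    let R := (pullback π π).presheaf.stalk z
    let τ := Spec.preimage ((pullback π π).fromSpecStalk z ≫ pullback.fst π π ≫ π)
    let J : Ideal R := I.map τ.hom
    have hJ20 : J * J = ⊥ := by rw [← Ideal.map_mul, h0, Ideal.map_bot]
    have hJ2 : J ≠ ⊤ := fun h => by
      rw [h, Ideal.mul_top] at hJ20
      exact top_ne_bot hJ20
    haveI : Nontrivial (R ⧸ J) := Ideal.Quotient.nontrivial_iff.2 hJ2
    haveI : IsLocalRing (R ⧸ J) := IsLocalRing.of_surjective' _ Ideal.Quotient.mk_surjective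
    let α' : Spec (CommRingCat.of (R ⧸ J)) ⟶ P.left :=
      Spec.map (CommRingCat.ofHom (Ideal.quotientMap J τ.hom Ideal.le_comap_map)) ≫ α
    have key : ∀ p : pullback π π ⟶ Spec (CommRingCat.of B), p ≫ π = pullback.fst π π ≫ π →
        Spec.map (CommRingCat.ofHom (Ideal.Quotient.mk J)) ≫ (pullback π π).fromSpecStalk z ≫ p ≫ δ = α' ∧
        ((pullback π π).fromSpecStalk z ≫ p ≫ δ) ≫ m.left = Spec.map τ ≫ β := by
      intro p hp
      obtain ⟨σ, hσ⟩ := Spec.map_surjective ((pullback π π).fromSpecStalk z ≫ p)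
      have hτ : CommRingCat.ofHom ψ ≫ σ = τ := by
        apply Spec.map_injective
        rw [Spec.map_comp, Spec.map_preimage, hσ, Category.assoc, ← hp]
      have hI' : I.map ψ ≤ J.comap σ.hom := by
        rw [← Ideal.map_le_iff_le_comap, Ideal.map_map]
        exact (congrArg (fun t : CommRingCat.of A ⟶ R => I.map t.hom) hτ).le
      refine ⟨?_, ?_⟩
      · rw [← Category.assoc _ p δ, ← hσ]
        have h1 : Spec.map (CommRingCat.ofHom (Ideal.Quotient.mk J)) ≫ Spec.map σ =
            Spec.map (CommRingCat.ofHom (Ideal.quotientMap J σ.hom hI')) ≫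
              Spec.map (CommRingCat.ofHom (Ideal.Quotient.mk (I.map ψ))) := by
          rw [← Spec.map_comp, ← Spec.map_comp]; rfl
        rw [reassoc_of% h1, hδ1, ← Spec.map_comp_assoc]
        refine congrArg (fun t : CommRingCat.of (A ⧸ I) ⟶ CommRingCat.of (R ⧸ J) => Spec.map t ≫ α)
          (CommRingCat.hom_ext (Ideal.Quotient.ringHom_ext (RingHom.ext fun a => ?_)))
        show Ideal.Quotient.mk J (σ.hom (ψ a)) = Ideal.Quotient.mk J (τ.hom a)
        exact congrArg _ (ConcreteCategory.congr_hom hτ a)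
      · simp only [Category.assoc, hδ2]
        rw [Spec.map_preimage, ← hp]; simp only [Category.assoc]
    have hc' : α'.base (closedPoint (R ⧸ J)) = α (closedPoint (A ⧸ I)) :=
      congrArg α (Subsingleton.elim (α := PrimeSpectrum (A ⧸ I)) _ _)
    obtain ⟨k1, k2⟩ := key (pullback.fst π π) rfl
    obtain ⟨k3, k4⟩ := key (pullback.snd π π) pullback.condition.symm
    refine LiftTest.uniqueLifts_of_formallyUnramified m.left _ (formallyUnramified_stalkMap hP n m hm _ hx)
      (R ⧸ J) R (Ideal.Quotient.mk J) Ideal.Quotient.mk_surjective (by rw [Ideal.mk_ker, pow_two, hJ20])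
      α' (Spec.map τ ≫ β) hc' ?_ _ _ k1 k2 k3 k4
    rw [← k1, ← k2]
    simp only [Category.assoc]
  let γ := EffectiveEpi.desc π δ (fun g₁ g₂ hg => by
    rw [← pullback.lift_fst g₁ g₂ hg, Category.assoc, hglue, ← Category.assoc, pullback.lift_snd])
  have hγ : π ≫ γ = δ := EffectiveEpi.fac π _ _
  have h1 : Spec.map (CommRingCat.ofHom (Ideal.Quotient.mk I)) ≫ γ = α := by
    let π₀ := Spec.map (CommRingCat.ofHom (Ideal.quotientMap (I.map ψ) ψ Ideal.le_comap_map))
    have H := AlgSp.isPullback_SpecMap_quotient (CommRingCat.ofHom ψ) I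
    haveI : Flat π₀ := MorphismProperty.of_isPullback (P := @Flat) H (inferInstanceAs (Flat π))
    haveI : Nontrivial (B ⧸ I.map ψ) := Ideal.Quotient.nontrivial_iff.2 hJ
    haveI : Surjective π₀ := ⟨fun x => ⟨Classical.arbitrary _, by
      exact Subsingleton.elim (α := PrimeSpectrum (A ⧸ I)) _ _⟩⟩
    haveI : Epi π₀ := inferInstance
    rw [← cancel_epi π₀, ← reassoc_of% hc, hγ, hδ1]
  have h2 : γ ≫ m.left = β := by rw [← cancel_epi π, reassoc_of% hγ, hδ2]
  exact ⟨γ, ⟨h1, h2⟩, fun γ' hγ' =>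
    eq_of_lifts hP n m hm I hI h0 hn γ' γ (hγ'.1.trans h1.symm) (hγ'.2.trans h2.symm)⟩

end GrothLib.PicRoot26
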