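import Groth.Agent.Lib.PicRoot26.Roots
import Groth.Agent.Lib.RelPicGrp26.Basic
import Groth.Agent.Lib.PicTan26.Point
import Groth.Agent.Lib.HilbBC13.Basic
import Groth.Agent.Lib.Contract29.AmpleCover
import Groth.Agent.Lib.LiftTest.Unique
import Groth.Agent.Lib.LiftTest.Local
import Groth.Agent.Lib.Gonflement.Main
import Groth.Agent.Lib.RLpsi8.GluePoint
import Mathlib.AlgebraicGeometry.Sites.Fpqc
import Mathlib.RingTheory.Henselian

/-!
# Lifting against small extensions for the `n`-th power map of a Picard scheme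
-/

universe u

open CategoryTheory CategoryTheory.Limits AlgebraicGeometry IsLocalRing

set_option backward.isDefEq.respectTransparency false
set_option synthInstance.maxHeartbeats 200000
set_option linter.style.haveILetI false

noncomputable section

namespace GrothLib.PicRoot26

open GrothLib.RelPicGrp26

theorem isAdicComplete_of_pow_eq_bot {R : Type u} [CommRing R] (I : Ideal R) {N : ℕ} (h : I ^ N = ⊥) :
    IsAdicComplete I R where
  haus' x hx := by
    have := hx N
    rwa [h, Submodule.bot_smul, SModEq.bot] at this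
  prec' f hf := ⟨f N, fun n => by
    rcases le_total n N with hn | hn
    · exact hf hn
    · refine (SModEq.mono ?_ (hf hn)).symm
      rw [h, Submodule.bot_smul]
      exact bot_le⟩

/-- An artinian local ring is henselian. -/
theorem henselian_of_isArtinianRing (R : Type u) [CommRing R] [IsLocalRing R] [IsArtinianRing R] :
    HenselianLocalRing R where
  toIsLocalRing := inferInstance
  is_henselian f hf a₀ h h' := by
    obtain ⟨k, hk⟩ : IsNilpotent (maximalIdeal R) := by
      rw [← IsLocalRing.jacobson_eq_maximalIdeal (⊥ : Ideal R) bot_ne_top]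
      exact IsArtinianRing.isNilpotent_jacobson_bot
    haveI : IsAdicComplete (maximalIdeal R) R := isAdicComplete_of_pow_eq_bot _ hk
    exact HenselianRing.is_henselian f hf a₀ h (h'.map _)

variable {X S : Scheme.{u}} {f : X ⟶ S} {P : Over S} {φ : ∀ T : Over S, PicF.Cl (PicF.XT f T) → (T ⟶ P)}

theorem Φ_pow (n : ℕ) (m : P ⟶ P)
    (hm : ∀ (T : Over S) (L : (PicF.XT f T).Modules), PicF.IsInvertible L →
      φ T (PicF.cl (CohB1.tensorPow L n)) = φ T (PicF.cl L) ≫ m)
    (T : Over S) (a : Cube.Pic (PicF.XT f T)) : Φ φ T (a ^ n) = Φ φ T a ≫ m := by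
  obtain ⟨L, hL, rfl⟩ := Contract29.exists_mod a
  have key : ∀ (N : (PicF.XT f T).Modules) (hN : PicF.IsInvertible N), Φ φ T (Cube.clsMod hN) = φ T (PicF.cl N) :=
    fun N hN => by
      rw [← PicH1.picSetMap_eq (⟨PicF.cl N, N, rfl, hN⟩ : PicLoc.PicSet _) hN rfl, Φ_picSetMap]
  rw [← Cube.clsMod_tensorPow hL n, key, key]
  exact hm T L hL

variable (hP : PicRel.IsRelPic f P φ)
include hP

theorem exists_Φ_eq {R : Type u} [CommRing R] [HenselianLocalRing R] [IsSepClosed (ResidueField R)]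
    (t : Spec (CommRingCat.of R) ⟶ S) (g : Over.mk t ⟶ P) : ∃ a, Φ φ (Over.mk t) a = g := by
  obtain ⟨ι, U, hU, h⟩ := exists_rep hP _ g
  obtain ⟨i, σ, hσ⟩ := PicTan26.exists_section_of_covers hU
  obtain ⟨a, ha⟩ := h i
  let s : Over.mk t ⟶ PicRel.ovr (Over.mk t) (U i) := Over.homMk σ (by
    show σ ≫ (U i).hom ≫ t = t
    rw [reassoc_of% hσ])
  have hs : s ≫ PicRel.ovrHom (Over.mk t) (U i) = 𝟙 _ := Over.OverMorphism.ext hσ
  exact ⟨Cube.pull (PicF.XTmap f s) a, by rw [Φ_natural hP, ha, ← Category.assoc, hs, Category.id_comp]⟩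

theorem eq_of_Φ_eq {R : Type u} [CommRing R] [HenselianLocalRing R] [IsSepClosed (ResidueField R)]
    {t : Spec (CommRingCat.of R) ⟶ S} {a b : Cube.Pic (PicF.XT f (Over.mk t))}
    (h : Φ φ (Over.mk t) a = Φ φ (Over.mk t) b) : a = b := by
  obtain ⟨ι, U, hU, he⟩ := exists_pull_eq hP h
  obtain ⟨i, σ, hσ⟩ := PicTan26.exists_section_of_covers hU
  let s : Over.mk t ⟶ PicRel.ovr (Over.mk t) (U i) := Over.homMk σ (by
    show σ ≫ (U i).hom ≫ t = t
    rw [reassoc_of% hσ])
  have hs : s ≫ PicRel.ovrHom (Over.mk t) (U i) = 𝟙 _ := Over.OverMorphism.ext hσ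
  have h1 := congrArg (Cube.pull (PicF.XTmap f s)) (he i)
  rw [pull_XTmap_comp, pull_XTmap_comp, hs, PicTan26.XTmap_id, Cube.pull_id, Cube.pull_id] at h1
  exact h1

variable (n : ℕ) (m : P ⟶ P)
  (hm : ∀ (T : Over S) (L : (PicF.XT f T).Modules), PicF.IsInvertible L →
    φ T (PicF.cl (CohB1.tensorPow L n)) = φ T (PicF.cl L) ≫ m)
include hm

/-- Unique lifting against small extensions with algebraically closed residue field. -/
theorem existsUnique_lift_algClosed [IsProper f] {A : Type u} [CommRing A] [IsLocalRing A] [IsArtinianRing A]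
    [IsAlgClosed (ResidueField A)] (I : Ideal A) (hI : I ≠ ⊤) (h0 : I * I = ⊥) (hn : IsUnit (n : A))
    (α : Spec (CommRingCat.of (A ⧸ I)) ⟶ P.left) (β : Spec (CommRingCat.of A) ⟶ P.left)
    (e : Spec.map (CommRingCat.ofHom (Ideal.Quotient.mk I)) ≫ β = α ≫ m.left) :
    ∃! γ : Spec (CommRingCat.of A) ⟶ P.left,
      Spec.map (CommRingCat.ofHom (Ideal.Quotient.mk I)) ≫ γ = α ∧ γ ≫ m.left = β := by
  haveI : Nontrivial (A ⧸ I) := Ideal.Quotient.nontrivial_iff.2 hI
  haveI : IsLocalRing (A ⧸ I) := IsLocalRing.of_surjective' _ Ideal.Quotient.mk_surjective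
  haveI := LiftTest.isLocalHom_of_surjective _ (Ideal.Quotient.mk_surjective (I := I))
  haveI : IsAlgClosed (ResidueField (A ⧸ I)) := IsAlgClosed.of_ringEquiv (ResidueField A) _
    (RingEquiv.ofBijective (ResidueField.map (Ideal.Quotient.mk I)) ⟨RingHom.injective _, fun y => by
      obtain ⟨y, rfl⟩ := IsLocalRing.residue_surjective y
      obtain ⟨x, rfl⟩ := Ideal.Quotient.mk_surjective y
      exact ⟨residue A x, rfl⟩⟩)
  haveI := henselian_of_isArtinianRing A
  haveI := henselian_of_isArtinianRing (A ⧸ I)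
  let c := Spec.map (CommRingCat.ofHom (Ideal.Quotient.mk I))
  let T : Over S := Over.mk (β ≫ P.hom)
  let T₀ : Over S := Over.mk (c ≫ β ≫ P.hom)
  let ι : T₀ ⟶ T := Over.homMk c rfl
  let b : T ⟶ P := Over.homMk β rfl
  let a : T₀ ⟶ P := Over.homMk α (by
    show α ≫ P.hom = Spec.map (CommRingCat.ofHom (Ideal.Quotient.mk I)) ≫ β ≫ P.hom
    rw [reassoc_of% e, Over.w m])
  obtain ⟨x, hx⟩ := exists_Φ_eq hP (β ≫ P.hom) b
  obtain ⟨y, hy⟩ := exists_Φ_eq hP (c ≫ β ≫ P.hom) a
  have hι : ∀ (z : Cube.Pic (PicF.XT f T)), Φ φ T₀ (Cube.pull (PicF.XTmap f ι) z) = ι ≫ Φ φ T z :=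
    fun z => Φ_natural hP ι z
  have hxy : Cube.pull (PicF.XTmap f ι) x = y ^ n := by
    refine eq_of_Φ_eq hP ?_
    rw [Φ_pow n m hm, hy, hι, hx]
    exact Over.OverMorphism.ext e
  have H := (HilbBC13.isPullback_XTmap f ι)
  haveI : IsClosedImmersion c := IsClosedImmersion.spec_of_surjective _ Ideal.Quotient.mk_surjective
  haveI : IsClosedImmersion (PicF.XTmap f ι) :=
    MorphismProperty.of_isPullback (P := @IsClosedImmersion) H.flip (inferInstanceAs (IsClosedImmersion c))
  have hsq : UnitsThick26.IsSqZero (PicF.XTmap f ι) :=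
    TorsPic29.isSqZero_of_pullback_sq (g := pullback.snd f T.hom) (p := pullback.snd f T₀.hom)
      (φ := Ideal.Quotient.mk I) H Ideal.Quotient.mk_surjective (by rw [Ideal.mk_ker, h0])
  letI : (PicF.XT f T).Over (Spec (CommRingCat.of A)) := ⟨pullback.snd f T.hom⟩
  haveI : IsProper (pullback.snd f T.hom) := inferInstance
  obtain ⟨z, hz1, hz2⟩ := exists_root_lift (A := A) (PicF.XTmap f ι) hsq hn x y hxy
  refine ⟨(Φ φ T z).left, ⟨?_, ?_⟩, ?_⟩
  · have := congrArg CommaMorphism.left ((hι z).symm.trans ((congrArg (Φ φ T₀) hz1).trans hy))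
    exact this
  · have := congrArg CommaMorphism.left ((Φ_pow n m hm T z).symm.trans ((congrArg (Φ φ T) hz2).trans hx))
    exact this
  · rintro γ ⟨h1, h2⟩
    let g : T ⟶ P := Over.homMk γ (by
      show γ ≫ P.hom = β ≫ P.hom
      rw [← Over.w m, reassoc_of% h2, Over.w m])
    obtain ⟨w, hw⟩ := exists_Φ_eq hP (β ≫ P.hom) g
    have h3 : w = z := by
      refine eq_of_root (A := A) (pullback.snd f T.hom) (PicF.XTmap f ι) hsq hn ?_ ?_
      · rw [hz1]
        refine eq_of_Φ_eq hP ?_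
        rw [hι, hw, hy]
        exact Over.OverMorphism.ext h1
      · rw [hz2]
        refine eq_of_Φ_eq hP ?_
        rw [Φ_pow n m hm, hw, hx]
        exact Over.OverMorphism.ext h2
    exact (congrArg CommaMorphism.left hw).symm.trans (by rw [h3])

end GrothLib.PicRoot26
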