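import Groth.Agent.Lib.TorsPic29.Divisible
import Groth.Agent.Lib.TorsPic29.Step
import Groth.Agent.Lib.TorsPic29.Main

/-!
# Roots of invertible modules along square zero thickenings
-/

universe u

open CategoryTheory CategoryTheory.Limits AlgebraicGeometry TopologicalSpace Opposite IsLocalRing

set_option backward.isDefEq.respectTransparency false
set_option linter.style.haveILetI false

noncomputable section

namespace GrothLib.PicRoot26

open GrothLib.PicH1 GrothLib.UnitsThick26 GrothLib.TorsPic29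

/-- A root of invertible order on a square zero subscheme lifts to a root. -/
theorem exists_root_lift {A : Type u} [CommRing A] {Z Z' : Scheme.{u}} [Z'.Over (Spec (CommRingCat.of A))]
    (c : Z ⟶ Z') [IsClosedImmersion c] (hc : IsSqZero c) {q : ℕ} (hq : IsUnit (q : A))
    (x : Cube.Pic Z') (y : Cube.Pic Z) (h : Cube.pull c x = y ^ q) :
    ∃ m, Cube.pull c m = y ∧ m ^ q = x := by
  obtain ⟨t, rfl⟩ := (toPicPushHG_bijective c).2 y
  obtain ⟨x₁, rfl⟩ := (toPicHG_bijective Z').2 x
  rw [← toPicPushHG_comap] at h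
  have h1 : HGmap (UnitsSh.comap c) 1 x₁.toAdd = q • t.toAdd :=
    congrArg Multiplicative.toAdd (toPicPushHG_injective c (h.trans (map_pow _ t q).symm))
  let d : HG (Coh.toAb (kerMod c)) 2 := HGdelta (thickSeq_shortExact hc) 1 2 rfl t.toAdd
  have hd : q • d = 0 := (map_nsmul (HGdelta (thickSeq_shortExact hc) 1 2 rfl) q _).symm.trans
    ((HG_exact₃ (thickSeq_shortExact hc) 1 2 rfl _).2 ⟨x₁.toAdd, h1⟩)
  have hd0 : d = 0 := by
    obtain ⟨u, hu⟩ := hq
    let d' : Coh.HH Z' (kerMod c) 2 := d
    have : d' = 0 := by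
      rw [← one_smul A d', ← u.inv_mul, mul_smul, hu, Nat.cast_smul_eq_nsmul, show q • d' = 0 from hd, smul_zero]
    exact this
  obtain ⟨m₀, hm₀⟩ := (HG_exact₃ (thickSeq_shortExact hc) 1 2 rfl _).1 hd0
  let M := toPicHG Z' (Multiplicative.ofAdd m₀)
  have hM : Cube.pull c M = toPicPushHG c t :=
    (toPicPushHG_comap c (Multiplicative.ofAdd m₀)).symm.trans (congrArg _ (congrArg Multiplicative.ofAdd hm₀))
  obtain ⟨w, hw1, hw2⟩ := exists_root_step (A := A) c hc hq (toPicHG Z' x₁ * (M ^ q)⁻¹) (by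
    rw [map_mul, map_inv, map_pow, hM, ← toPicPushHG_comap, h, mul_inv_cancel])
  exact ⟨M * w, by rw [map_mul, hw1, mul_one, hM], by rw [mul_pow, hw2, mul_comm, inv_mul_cancel_right]⟩

/-- A root of invertible order is determined by its restriction to a square zero subscheme, over a ring
with algebraically closed residue field. -/
theorem eq_of_root {A : Type u} [CommRing A] [IsLocalRing A] [IsArtinianRing A] [IsAlgClosed (ResidueField A)]
    {Z Z' : Scheme.{u}} (g : Z' ⟶ Spec (CommRingCat.of A)) [IsProper g] (c : Z ⟶ Z') [IsClosedImmersion c]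
    (hc : IsSqZero c) {q : ℕ} (hq : IsUnit (q : A)) {m m' : Cube.Pic Z'}
    (h1 : Cube.pull c m = Cube.pull c m') (h2 : m ^ q = m' ^ q) : m = m' := by
  letI : Z'.Over (Spec (CommRingCat.of A)) := ⟨g⟩
  refine mul_inv_eq_one.1 (eq_one_of_torsion_step (A := A) c hc hq (exists_units_root (c ≫ g) (fun z => ?_) hq)
    (m * m'⁻¹) (by rw [mul_pow, inv_pow, h2, mul_inv_cancel]) (by rw [map_mul, map_inv, h1, mul_inv_cancel]))
  haveI : Subsingleton (PrimeSpectrum A) :=
    ⟨fun x y => PrimeSpectrum.ext ((IsLocalRing.eq_maximalIdeal inferInstance).trans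
      (IsLocalRing.eq_maximalIdeal (I := y.asIdeal) inferInstance).symm)⟩
  exact Subsingleton.elim (α := PrimeSpectrum A) _ _

end GrothLib.PicRoot26
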