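import Groth.Agent.Lib.PicRoot26.Lift
import Groth.Agent.Lib.Lift7.Lines
import Groth.Agent.Lib.BCCoh.FlatBC
import Groth.Agent.Lib.LocProp.Stalk
import Groth.Agent.Lib.Sect28.Section
import Groth.Agent.Lib.BCCoh.Grauert2
import Mathlib.RingTheory.LocalRing.Module

/-!
# Smoothness of the Picard scheme where the second cohomology of the fibres vanishes
-/

universe u

open CategoryTheory CategoryTheory.Limits AlgebraicGeometry IsLocalRing

set_option backward.isDefEq.respectTransparency false
set_option synthInstance.maxHeartbeats 200000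
set_option linter.style.haveILetI false

noncomputable section

namespace GrothLib.PicRoot26

open GrothLib.RelPicGrp26

/-- A flat module over an artinian local ring is free. -/
theorem free_of_flat_artinian (R M : Type u) [CommRing R] [IsLocalRing R] [IsArtinianRing R] [AddCommGroup M]
    [Module R M] [Module.Flat R M] : Module.Free R M := by
  let k := ResidueField R
  let w := Module.Free.chooseBasis k (TensorProduct R k M)
  obtain ⟨v, hv⟩ := (TensorProduct.mk_surjective R M k residue_surjective).comp_left w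
  change TensorProduct.mk R k M 1 ∘ v = w at hv
  let N := Submodule.span R (Set.range v)
  have h1 : (⊤ : Submodule R M) ≤ N ⊔ maximalIdeal R • ⊤ := fun x _ => by
    have hx : TensorProduct.mk R k M 1 x ∈ Submodule.span R (Set.range (TensorProduct.mk R k M 1 ∘ v)) := by
      have h2 : TensorProduct.mk R k M 1 x ∈ (Submodule.span k (Set.range w)).restrictScalars R := by
        rw [w.span_eq]; trivial
      rw [Submodule.restrictScalars_span R k residue_surjective] at h2
      rwa [hv]
    rw [Set.range_comp, Submodule.span_image] at hx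
    obtain ⟨y, hy, hyx⟩ := hx
    have hk : x - y ∈ maximalIdeal R • (⊤ : Submodule R M) := by
      rw [← LinearMap.ker_tensorProductMk, LinearMap.mem_ker, map_sub]
      exact sub_eq_zero.2 hyx.symm
    rw [← add_sub_cancel y x]
    exact Submodule.add_mem_sup hy hk
  obtain ⟨j, hj⟩ : IsNilpotent (maximalIdeal R) := by
    rw [← IsLocalRing.jacobson_eq_maximalIdeal (⊥ : Ideal R) bot_ne_top]
    exact IsArtinianRing.isNilpotent_jacobson_bot
  have h3 : ∀ j : ℕ, (⊤ : Submodule R M) ≤ N ⊔ (maximalIdeal R) ^ j • ⊤ := by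
    intro j
    induction j with
    | zero => simp
    | succ j ih =>
      refine ih.trans (sup_le le_sup_left ((Submodule.smul_mono le_rfl h1).trans ?_))
      rw [Submodule.smul_sup, ← mul_smul, ← pow_succ]
      exact sup_le (Submodule.smul_le_right.trans le_sup_left) le_sup_right
  refine Module.Free.of_basis (Module.Basis.mk (Module.IsLocalRing.linearIndependent_of_flat v (hv ▸ w.linearIndependent)) ?_)
  have := h3 j
  rwa [hj, Ideal.zero_eq_bot, Submodule.bot_smul, sup_bot_eq] at this

/-- A faithfully flat algebra over an artinian local ring retracts linearly. -/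
theorem exists_retraction (A B : Type u) [CommRing A] [IsLocalRing A] [IsArtinianRing A] [CommRing B] [IsLocalRing B]
    [Algebra A B] [IsLocalHom (algebraMap A B)] [Module.Flat A B] : ∃ ρ : B →ₗ[A] A, ρ 1 = 1 := by
  haveI := free_of_flat_artinian A B
  let c := Module.Free.chooseBasis A B
  obtain ⟨i, hi⟩ : ∃ i, IsUnit (c.repr 1 i) := by
    by_contra h
    push Not at h
    refine (one_ne_zero : (1 : ResidueField B) ≠ 0) ?_
    rw [← map_one (residue B), ← c.linearCombination_repr 1, Finsupp.linearCombination_apply, Finsupp.sum, map_sum]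
    refine Finset.sum_eq_zero fun i _ => ?_
    rw [Algebra.smul_def, map_mul, (residue_eq_zero_iff _).2 (map_nonunit (algebraMap A B) _ (h i)), zero_mul]
  exact ⟨(hi.unit⁻¹ : Aˣ).1 • c.coord i, hi.val_inv_mul⟩

/-- The second cohomology of the structure sheaf stays zero under extension of the base field. -/
theorem subsingleton_HH_structure_baseChange {k k' : Type u} [Field k] [Field k'] (φ : k →+* k') {X X' : Scheme.{u}}
    (x : X ⟶ Spec (CommRingCat.of k)) (x' : X' ⟶ Spec (CommRingCat.of k')) [IsSeparated x] [QuasiCompact x]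
    (g : X' ⟶ X) (H : IsPullback g x' x (Spec.map (CommRingCat.ofHom φ))) (p : ℕ)
    (h : Subsingleton (Coh.HH X (Coh.structureModule X) p)) :
    Subsingleton (Coh.HH X' (Coh.structureModule X') p) := by
  letI : X.Over (Spec (CommRingCat.of k)) := ⟨x⟩
  letI : X'.Over (Spec (CommRingCat.of k')) := ⟨x'⟩
  letI := φ.toAlgebra
  haveI : CompactSpace X := QuasiCompact.compactSpace_of_compactSpace x
  haveI : X.IsSeparated := ⟨by
    rw [show terminal.from X = x ≫ terminal.from _ from terminal.hom_ext _ _]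
    infer_instance⟩
  haveI : (Coh.structureModule X).IsQuasicoherent := (HomSh.isCoh_structureModule X).1
  have hflat : φ.Flat := by
    show Module.Flat k k'
    infer_instance
  obtain ⟨e⟩ := BCCoh.exists_flatBC φ hflat _ _ g H (Coh.structureModule X) p
  let eP := Euler.hhEquiv (A := k') (OX.pullUnitIso g) p
  exact (e.trans eP).symm.toEquiv.subsingleton

variable {X S : Scheme.{u}} {f : X ⟶ S} [IsProper f] [Flat f] {P : Over S}
  {φ : ∀ T : Over S, PicF.Cl (PicF.XT f T) → (T ⟶ P)}

/-- Points lift over artinian local rings with algebraically closed residue field. -/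
theorem exists_lift_algClosed (hP : PicRel.IsRelPic f P φ) {A : Type u} [CommRing A] [IsLocalRing A]
    [IsArtinianRing A] [IsAlgClosed (ResidueField A)] (I : Ideal A) (hI : I ≠ ⊤)
    (t : Spec (CommRingCat.of A) ⟶ S)
    (h2 : Subsingleton (Coh.HH (pullback f (S.fromSpecResidueField (t (closedPoint A)))) (Coh.structureModule _) 2))
    (α : Spec (CommRingCat.of (A ⧸ I)) ⟶ P.left)
    (hα : α ≫ P.hom = Spec.map (CommRingCat.ofHom (Ideal.Quotient.mk I)) ≫ t) :
    ∃ γ : Spec (CommRingCat.of A) ⟶ P.left,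
      Spec.map (CommRingCat.ofHom (Ideal.Quotient.mk I)) ≫ γ = α ∧ γ ≫ P.hom = t := by
  haveI : Nontrivial (A ⧸ I) := Ideal.Quotient.nontrivial_iff.2 hI
  haveI : IsLocalRing (A ⧸ I) := IsLocalRing.of_surjective' _ Ideal.Quotient.mk_surjective
  haveI := LiftTest.isLocalHom_of_surjective _ (Ideal.Quotient.mk_surjective (I := I))
  haveI : IsAlgClosed (ResidueField (A ⧸ I)) := IsAlgClosed.of_ringEquiv (ResidueField A) _
    (RingEquiv.ofBijective (ResidueField.map (Ideal.Quotient.mk I)) ⟨RingHom.injective _, fun y => by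
      obtain ⟨y, rfl⟩ := IsLocalRing.residue_surjective y
      obtain ⟨x, rfl⟩ := Ideal.Quotient.mk_surjective y
      exact ⟨residue A x, rfl⟩⟩)
  haveI := henselian_of_isArtinianRing (A ⧸ I)
  let c := Spec.map (CommRingCat.ofHom (Ideal.Quotient.mk I))
  let T : Over S := Over.mk t
  let T₀ : Over S := Over.mk (c ≫ t)
  let ι : T₀ ⟶ T := Over.homMk c rfl
  let a : T₀ ⟶ P := Over.homMk α hα
  obtain ⟨y, hy⟩ := exists_Φ_eq hP (c ≫ t) a
  obtain ⟨L, hL, rfl⟩ := Contract29.exists_mod y
  let p := pullback.snd f T.hom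
  haveI : Flat p := inferInstance
  let r := Spec.map (CommRingCat.ofHom (residue A))
  have h2K : Subsingleton (Coh.HH (pullback p r) (Coh.structureModule _) 2) := by
    let κ := S.residueField (t (closedPoint A))
    haveI : IsLocalHom (Scheme.stalkClosedPointTo t ≫ CommRingCat.ofHom (residue A)).hom := by
      haveI : IsLocalHom (CommRingCat.ofHom (residue A)).hom :=
        LiftTest.isLocalHom_of_surjective (residue A) residue_surjective
      rw [CommRingCat.hom_comp]
      exact RingHom.isLocalHom_comp _ _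
    let δ := S.descResidueField (Scheme.stalkClosedPointTo t ≫ CommRingCat.ofHom (residue A))
    have hδ : Spec.map δ ≫ S.fromSpecResidueField (t (closedPoint A)) = r ≫ t := by
      rw [Scheme.descResidueField_fromSpecResidueField, Spec.map_comp, Category.assoc,
        Scheme.Spec_stalkClosedPointTo_fromSpecStalk]
    let g : pullback p r ⟶ pullback f (S.fromSpecResidueField (t (closedPoint A))) :=
      pullback.lift (pullback.fst p r ≫ pullback.fst f T.hom) (pullback.snd p r ≫ Spec.map δ) (by
        rw [Category.assoc, Category.assoc, hδ, pullback.condition, ← Category.assoc, pullback.condition,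
          Category.assoc]
        rfl)
    have H : IsPullback g (pullback.snd p r) (pullback.snd f _) (Spec.map δ) := by
      refine IsPullback.of_right ?_ (pullback.lift_snd _ _ _) (IsPullback.of_hasPullback _ _)
      rw [pullback.lift_fst, hδ]
      exact (IsPullback.of_hasPullback p r).paste_horiz (IsPullback.of_hasPullback f T.hom)
    exact subsingleton_HH_structure_baseChange δ.hom _ _ g H 2 h2
  obtain ⟨M, hM, ⟨eM⟩⟩ := Lift7.exists_lift_step (Ideal.Quotient.mk I) Ideal.Quotient.mk_surjective
    (by rw [Ideal.mk_ker]; exact le_maximalIdeal hI) (HilbBC13.isPullback_XTmap f ι) (residue A) residue_surjective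
    IsLocalRing.ker_residue (IsPullback.of_hasPullback p r) h2K hL
  refine ⟨(Φ φ T (Cube.clsMod hM)).left, ?_, Over.w _⟩
  have h3 : Cube.pull (PicF.XTmap f ι) (Cube.clsMod hM) = Cube.clsMod hL := by
    rw [← Cube.clsMod_pullback (PicF.XTmap f ι) hM]
    exact (Cube.clsMod_eq_iff _ hL).2 ⟨eM⟩
  exact congrArg CommaMorphism.left ((Φ_natural hP ι _).symm.trans ((congrArg (Φ φ T₀) h3).trans hy))

/-- The stalk maps of the Picard scheme are formally smooth where the second cohomology of the fibre vanishes. -/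
theorem formallySmooth_stalkMap [IsLocallyNoetherian S] [LocallyOfFiniteType P.hom]
    (hP : PicRel.IsRelPic f P φ) (x : P.left)
    (h2 : Subsingleton (Coh.HH (pullback f (S.fromSpecResidueField (P.hom x))) (Coh.structureModule _) 2)) :
    (P.hom.stalkMap x).hom.FormallySmooth := by
  refine LiftTest.formallySmooth_of_existsLift _ (LocallyOfFiniteType.stalkMap P.hom x) ?_
  intro A _ _ _ h _ I hI hIm g₀ hg₀ hloc _
  obtain ⟨B, _, _, _, ψ, hB, hψ, hflat⟩ := exists_flat_algClosed A
  letI := ψ.toAlgebra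
  haveI : Module.Flat A B := hflat
  haveI : IsLocalHom (algebraMap A B) := hψ
  obtain ⟨ρ, hρ⟩ := exists_retraction A B
  let J := I.map ψ
  have hJ : J ≠ ⊤ := fun h => by
    have : (maximalIdeal A).map ψ ≤ maximalIdeal B := ((IsLocalRing.local_hom_TFAE ψ).out 0 2).1 hψ
    exact (maximalIdeal.isMaximal B).ne_top (top_le_iff.1 (h ▸ (Ideal.map_mono (le_maximalIdeal hI)).trans this))
  have h0 : I * I = ⊥ := le_bot_iff.1 ((Ideal.mul_mono le_rfl (le_maximalIdeal hI)).trans hIm.le)
  have hJ0 : J * J = ⊥ := by rw [← Ideal.map_mul, h0, Ideal.map_bot]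
  let g₀' := (Ideal.quotientMap J ψ Ideal.le_comap_map).comp g₀
  let t := Spec.map (CommRingCat.ofHom (ψ.comp h)) ≫ S.fromSpecStalk (P.hom x)
  let α := Spec.map (CommRingCat.ofHom g₀') ≫ P.left.fromSpecStalk x
  have ht : t (closedPoint B) = P.hom x := by
    show S.fromSpecStalk (P.hom x) (Spec.map (CommRingCat.ofHom (ψ.comp h)) (closedPoint B)) = _
    rw [LiftTest.Spec_map_closedPoint, Scheme.fromSpecStalk_closedPoint]
  have hα : α ≫ P.hom = Spec.map (CommRingCat.ofHom (Ideal.Quotient.mk J)) ≫ t := by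
    rw [Category.assoc, ← Scheme.SpecMap_stalkMap_fromSpecStalk, ← Spec.map_comp_assoc, ← Spec.map_comp_assoc]
    refine congrArg (fun q => Spec.map q ≫ S.fromSpecStalk (P.hom x)) (CommRingCat.hom_ext (RingHom.ext fun s => ?_))
    show Ideal.quotientMap J ψ Ideal.le_comap_map (g₀ ((P.hom.stalkMap x).hom s)) = Ideal.Quotient.mk J (ψ (h s))
    rw [show g₀ ((P.hom.stalkMap x).hom s) = Ideal.Quotient.mk I (h s) from DFunLike.congr_fun hg₀ s]
    rfl
  haveI : Nontrivial (B ⧸ J) := Ideal.Quotient.nontrivial_iff.2 hJ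
  haveI : IsLocalRing (B ⧸ J) := IsLocalRing.of_surjective' _ Ideal.Quotient.mk_surjective
  haveI : IsLocalHom g₀' := ⟨fun b hb => by
    by_contra hnb
    obtain ⟨a, ha, hab⟩ := (Ideal.mem_map_iff_of_surjective _ Ideal.Quotient.mk_surjective).1 (hloc b hnb)
    have hb' : IsUnit (Ideal.Quotient.mk J (ψ a)) := by
      have e : g₀' b = Ideal.Quotient.mk J (ψ a) := by
        show Ideal.quotientMap J ψ Ideal.le_comap_map (g₀ b) = _
        rw [← hab]; rfl
      exact e ▸ hb
    haveI := LiftTest.isLocalHom_of_surjective _ (Ideal.Quotient.mk_surjective (I := J))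
    exact ha ((isUnit_map_iff ψ a).1 ((isUnit_map_iff (Ideal.Quotient.mk J) (ψ a)).1 hb'))⟩
  obtain ⟨γ, hγ1, hγ2⟩ := exists_lift_algClosed hP J hJ t (ht ▸ h2) α hα
  have hx : γ (closedPoint B) = x := by
    rw [show closedPoint B = Spec.map (CommRingCat.ofHom (Ideal.Quotient.mk J)) (closedPoint (B ⧸ J)) from
      Subsingleton.elim (α := PrimeSpectrum B) _ _, ← Scheme.Hom.comp_apply, hγ1]
    show P.left.fromSpecStalk x (Spec.map (CommRingCat.ofHom g₀') (closedPoint (B ⧸ J))) = x
    rw [LiftTest.Spec_map_closedPoint, Scheme.fromSpecStalk_closedPoint]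
  obtain ⟨k, -, hk⟩ := LiftTest.exists_fac γ x hx
  rw [← hk, ← Spec.map_comp_assoc, cancel_mono] at hγ1
  rw [← hk, Category.assoc, ← Scheme.SpecMap_stalkMap_fromSpecStalk, ← Spec.map_comp_assoc, cancel_mono] at hγ2
  have hk1 : ∀ b, Ideal.Quotient.mk J (k.hom b) = g₀' b := fun b =>
    DFunLike.congr_fun (congrArg CommRingCat.Hom.hom (Spec.map_injective hγ1)) b
  have hk2 : ∀ s, k.hom ((P.hom.stalkMap x).hom s) = ψ (h s) := fun s =>
    DFunLike.congr_fun (congrArg CommRingCat.Hom.hom (Spec.map_injective hγ2)) s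
  have hρψ : ∀ a, ρ (ψ a) = a := fun a => by
    rw [show ψ a = a • (1 : B) from ((Algebra.smul_def a (1 : B)).trans (mul_one _)).symm, map_smul, hρ, smul_eq_mul, mul_one]
  have hρJ : ∀ j ∈ J, ρ j ∈ I := by
    intro j hj
    have : J.restrictScalars A = I • (⊤ : Submodule A B) := (Ideal.smul_top_eq_map I).symm
    have hj' : j ∈ I • (⊤ : Submodule A B) := this ▸ hj
    have h4 : Submodule.map ρ (I • ⊤) ≤ (I : Submodule A A) := by
      rw [Submodule.map_smul'']
      exact Submodule.smul_le.2 fun r hr n _ => by rw [smul_eq_mul]; exact I.mul_mem_right _ hr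
    exact h4 ⟨j, hj', rfl⟩
  have hdec : ∀ b, ∃ a i, i ∈ J ∧ k.hom b = ψ a + i ∧ Ideal.Quotient.mk I a = g₀ b := fun b => by
    obtain ⟨a, ha⟩ := Ideal.Quotient.mk_surjective (g₀ b)
    refine ⟨a, k.hom b - ψ a, Ideal.Quotient.eq.1 ?_, by ring, ha⟩
    rw [hk1]
    show Ideal.quotientMap J ψ Ideal.le_comap_map (g₀ b) = _
    rw [← ha]; rfl
  refine ⟨{ toFun := fun b => ρ (k.hom b), map_one' := by rw [map_one, hρ], map_mul' := fun b b' => ?_,
            map_zero' := by rw [map_zero, map_zero], map_add' := fun b b' => by rw [map_add, map_add] }, ?_, ?_⟩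
  · obtain ⟨a, i, hi, hb, -⟩ := hdec b
    obtain ⟨a', i', hi', hb', -⟩ := hdec b'
    have e1 : i * i' = 0 := Ideal.mem_bot.1 (hJ0 ▸ Ideal.mul_mem_mul hi hi')
    have e2 : ρ i * ρ i' = 0 := Ideal.mem_bot.1 (h0 ▸ Ideal.mul_mem_mul (hρJ i hi) (hρJ i' hi'))
    have e3 : k.hom (b * b') = ψ (a * a') + (a • i' + a' • i) := by
      rw [map_mul, hb, hb', map_mul, Algebra.smul_def, Algebra.smul_def]
      show _ = ψ a * ψ a' + (ψ a * i' + ψ a' * i)
      linear_combination e1
    show ρ (k.hom (b * b')) = ρ (k.hom b) * ρ (k.hom b')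
    rw [e3, hb, hb', map_add, map_add, map_add, map_add, map_smul, map_smul, hρψ, hρψ, hρψ, smul_eq_mul, smul_eq_mul]
    linear_combination -e2
  · refine RingHom.ext fun s => ?_
    show ρ (k.hom ((P.hom.stalkMap x).hom s)) = h s
    rw [hk2, hρψ]
  · refine RingHom.ext fun b => ?_
    obtain ⟨a, i, hi, hb, ha⟩ := hdec b
    show Ideal.Quotient.mk I (ρ (k.hom b)) = g₀ b
    rw [hb, map_add, hρψ, map_add, Ideal.Quotient.eq_zero_iff_mem.2 (hρJ i hi), add_zero, ha]

end GrothLib.PicRoot26
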